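import Groth.Agent.Lib.FixPt13.GaGm
import Groth.Agent.Lib.RedPts.Ga

/-!
# Additive points over a Galois extension give additive points over the base field
-/

set_option autoImplicit false
set_option linter.style.haveILetI false
set_option backward.isDefEq.respectTransparency false
set_option maxHeartbeats 1000000
set_option synthInstance.maxHeartbeats 100000

universe u

open CategoryTheory CategoryTheory.Limits MonoidalCategory CartesianMonoidalCategory MonObj GrpObj AlgebraicGeometry
open VecGrp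
open scoped TensorProduct

noncomputable section

namespace GrothLib.GaTrace21

attribute [-instance] ULift.module

variable {k : Type u} [Field k] {H : Over (Spec (CommRingCat.of k))}

/-- An affine object is the test object of its ring of functions. -/
theorem exists_iso_pt [IsAffine H.left] :
    ∃ (A : Type u) (_ : CommRing A) (_ : Algebra k A) (v : pt k A ⟶ H), IsIso v := by
  let s := Spec.preimage (H.left.isoSpec.inv ≫ H.hom)
  letI : Algebra k Γ(H.left, ⊤) := s.hom.toAlgebra
  have h : H.left.isoSpec.inv ≫ H.hom = Spec.map (CommRingCat.ofHom (algebraMap k Γ(H.left, ⊤))) := by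
    rw [RingHom.algebraMap_toAlgebra, CommRingCat.ofHom_hom, Spec.map_preimage]
  refine ⟨Γ(H.left, ⊤), inferInstance, inferInstance, Over.homMk H.left.isoSpec.inv h, ?_⟩
  haveI : IsIso ((Over.forget _).map (Over.homMk H.left.isoSpec.inv h : pt k Γ(H.left, ⊤) ⟶ H)) :=
    inferInstanceAs (IsIso H.left.isoSpec.inv)
  exact isIso_of_reflects_iso _ (Over.forget _)

/-- Points on subalgebras inject. -/
theorem pts_injective [IsAffine H.left] {R R' : Type u} [CommRing R] [Algebra k R] [CommRing R'] [Algebra k R']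
    (j0 : R →ₐ[k] R') (hj0 : Function.Injective j0) {x y : pt k R ⟶ H} (h : ptMap j0 ≫ x = ptMap j0 ≫ y) : x = y := by
  obtain ⟨A, _, _, v, _⟩ := exists_iso_pt (H := H)
  obtain ⟨α, hα⟩ := Repr.exists_ptMap (x ≫ inv v)
  obtain ⟨β, hβ⟩ := Repr.exists_ptMap (y ≫ inv v)
  have h' : ptMap (j0.comp α) = ptMap (j0.comp β) := by
    rw [Repr.ptMap_comp, Repr.ptMap_comp, ← hα, ← hβ, ← Category.assoc, ← Category.assoc, h]
  have h2 : j0.comp α = j0.comp β := by
    have h3 := congrArg (fun z => z.left) h'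
    rw [ptMap_left, ptMap_left] at h3
    exact AlgHom.ext fun a => congrArg (fun z => (CommRingCat.Hom.hom z) a) (Spec.map_injective h3)
  have h4 : α = β := AlgHom.ext fun a => hj0 (AlgHom.congr_fun h2 a)
  rw [← cancel_mono (inv v), hα, hβ, h4]

/-- Points factor through the subalgebra containing the images of the functions. -/
theorem exists_factor [IsAffine H.left] {R R' : Type u} [CommRing R] [Algebra k R] [CommRing R'] [Algebra k R']
    (j0 : R →ₐ[k] R') (hj0 : Function.Injective j0) {A : Type u} [CommRing A] [Algebra k A] (v : pt k A ⟶ H)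
    (α : A →ₐ[k] R') (hα : ∀ a, α a ∈ j0.range) : ∃ x : pt k R ⟶ H, ptMap j0 ≫ x = ptMap α ≫ v := by
  let β : A →ₐ[k] R := (AlgEquiv.ofInjective j0 hj0).symm.toAlgHom.comp (α.codRestrict j0.range hα)
  refine ⟨ptMap β ≫ v, ?_⟩
  rw [← Category.assoc, ← Repr.ptMap_comp]
  refine congrArg (fun t => ptMap t ≫ v) (AlgHom.ext fun a => ?_)
  exact congrArg Subtype.val ((AlgEquiv.ofInjective j0 hj0).apply_symm_apply ⟨α a, hα a⟩)

variable [GrpObj H] [IsCommMonObj H]

/-- A point on a polynomial ring is additive in the variable, the constants being fixed. -/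
def IsAdditive {L : Type u} [Field L] [Algebra k L] (φ : pt k (Polynomial L) ⟶ H) : Prop :=
  ∀ (C : Type u) [CommRing C] [Algebra k C] (β β1 δ : Polynomial L →ₐ[k] C),
    (∀ c, β1 (Polynomial.C c) = β (Polynomial.C c)) → (∀ c, δ (Polynomial.C c) = β (Polynomial.C c)) →
    δ Polynomial.X = β Polynomial.X + β1 Polynomial.X → (ptMap β ≫ φ) * (ptMap β1 ≫ φ) = ptMap δ ≫ φ

section Field

variable {L : Type u} [Field L] [Algebra k L]

theorem polyHom_ext {C : Type u} [CommRing C] [Algebra k C] {f g : Polynomial L →ₐ[k] C}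
    (hC : ∀ c, f (Polynomial.C c) = g (Polynomial.C c)) (hX : f Polynomial.X = g Polynomial.X) : f = g :=
  AlgHom.coe_ringHom_injective (Polynomial.ringHom_ext hC hX)

/-- The map with given constants and variable. -/
def evalWith {C : Type u} [CommRing C] [Algebra k C] (i : L →ₐ[k] C) (x : C) : Polynomial L →ₐ[k] C :=
  { Polynomial.eval₂RingHom (i : L →+* C) x with
    commutes' := fun c => by
      show Polynomial.eval₂ (i : L →+* C) x (algebraMap k (Polynomial L) c) = _
      rw [IsScalarTower.algebraMap_apply k L (Polynomial L), Polynomial.algebraMap_eq, Polynomial.eval₂_C]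
      exact i.commutes c }

theorem evalWith_C {C : Type u} [CommRing C] [Algebra k C] (i : L →ₐ[k] C) (x : C) (c : L) :
    evalWith i x (Polynomial.C c) = i c := Polynomial.eval₂_C _ _

theorem evalWith_X {C : Type u} [CommRing C] [Algebra k C] (i : L →ₐ[k] C) (x : C) :
    evalWith i x Polynomial.X = x := Polynomial.eval₂_X _ _

theorem IsAdditive.apply {φ : pt k (Polynomial L) ⟶ H} (hφ : IsAdditive φ) {C : Type u} [CommRing C] [Algebra k C]
    (i : L →ₐ[k] C) (x y : C) :
    (ptMap (evalWith i x) ≫ φ) * (ptMap (evalWith i y) ≫ φ) = ptMap (evalWith i (x + y)) ≫ φ :=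
  hφ C _ _ _ (fun c => by rw [evalWith_C, evalWith_C]) (fun c => by rw [evalWith_C, evalWith_C])
    (by rw [evalWith_X, evalWith_X, evalWith_X])

theorem IsAdditive.apply_zero {φ : pt k (Polynomial L) ⟶ H} (hφ : IsAdditive φ) {C : Type u} [CommRing C] [Algebra k C]
    (i : L →ₐ[k] C) : ptMap (evalWith i 0) ≫ φ = 1 := by
  have h := hφ.apply i (0 : C) 0
  rw [add_zero] at h
  exact mul_eq_left.mp h

theorem IsAdditive.apply_sum {φ : pt k (Polynomial L) ⟶ H} (hφ : IsAdditive φ) {C : Type u} [CommRing C] [Algebra k C]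
    (i : L →ₐ[k] C) {J : Type u} (s : Finset J) (x : J → C) :
    ∏ j ∈ s, (ptMap (evalWith i (x j)) ≫ φ) = ptMap (evalWith i (∑ j ∈ s, x j)) ≫ φ := by
  classical
  induction s using Finset.induction_on with
  | empty => rw [Finset.prod_empty, Finset.sum_empty, hφ.apply_zero]
  | insert j s hj ih => rw [Finset.prod_insert hj, Finset.sum_insert hj, ih, hφ.apply]

theorem comp_prod {T T' : Over (Spec (CommRingCat.of k))} (t : T' ⟶ T) {J : Type u} (s : Finset J)
    (f : J → (T ⟶ H)) : t ≫ (∏ j ∈ s, f j) = ∏ j ∈ s, (t ≫ f j) := by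
  classical
  induction s using Finset.induction_on with
  | empty => rw [Finset.prod_empty, Finset.prod_empty, MonObj.comp_one]
  | insert j s hj ih => rw [Finset.prod_insert hj, Finset.prod_insert hj, MonObj.comp_mul, ih]

variable [IsAffine H.left]

/-- An additive point over an extension gives one over a subfield containing its coefficients. -/
theorem IsAdditive.of_extension {Ω : Type u} [Field Ω] [Algebra k Ω] (e : L →ₐ[k] Ω)
    (φ : pt k (Polynomial L) ⟶ H) (hφ : IsAdditive (ptMap (Polynomial.mapAlgHom e) ≫ φ)) : IsAdditive φ := by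
  intro C _ _ β β1 δ hβ1 hδ hX
  letI : Algebra L Ω := e.toRingHom.toAlgebra
  let iC : L →ₐ[k] C := β.comp (Polynomial.CAlgHom (R := k))
  letI : Algebra L C := iC.toRingHom.toAlgebra
  haveI : IsScalarTower k L Ω := IsScalarTower.of_algebraMap_eq fun c => (e.commutes c).symm
  haveI : IsScalarTower k L C := IsScalarTower.of_algebraMap_eq fun c => (iC.commutes c).symm
  let j0 : C →ₐ[k] Ω ⊗[L] C := (Algebra.TensorProduct.includeRight : C →ₐ[L] Ω ⊗[L] C).restrictScalars k
  have hj0 : Function.Injective j0 :=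
    Algebra.TensorProduct.includeRight_injective (RingHom.injective (algebraMap L Ω))
  let l : Ω →ₐ[k] Ω ⊗[L] C := (Algebra.TensorProduct.includeLeft : Ω →ₐ[L] Ω ⊗[L] C).restrictScalars k
  have hl : ∀ c, l (e c) = j0 (iC c) := fun c => by
    show (algebraMap L Ω c) ⊗ₜ[L] (1 : C) = (1 : Ω) ⊗ₜ[L] (algebraMap L C c)
    rw [Algebra.algebraMap_eq_smul_one, Algebra.algebraMap_eq_smul_one, TensorProduct.smul_tmul]
  have key : ∀ f0 : Polynomial L →ₐ[k] C, (∀ c, f0 (Polynomial.C c) = β (Polynomial.C c)) →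
      ptMap j0 ≫ ptMap f0 ≫ φ = ptMap (evalWith l (j0 (f0 Polynomial.X))) ≫ ptMap (Polynomial.mapAlgHom e) ≫ φ := by
    intro f0 hf0
    rw [← Category.assoc, ← Category.assoc, ← Repr.ptMap_comp, ← Repr.ptMap_comp]
    refine congrArg (fun t => ptMap t ≫ φ) (polyHom_ext (fun c => ?_) ?_)
    · show j0 (f0 (Polynomial.C c)) = evalWith l _ (Polynomial.map (e : L →+* Ω) (Polynomial.C c))
      rw [Polynomial.map_C, evalWith_C, hf0]
      exact (hl c).symm
    · show j0 (f0 Polynomial.X) = evalWith l _ (Polynomial.map (e : L →+* Ω) Polynomial.X)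
      rw [Polynomial.map_X, evalWith_X]
  apply pts_injective j0 hj0
  rw [MonObj.comp_mul, key β (fun _ => rfl), key β1 hβ1, key δ hδ, hX, map_add]
  exact hφ.apply l _ _

/-- The twisted substitution. -/
def tw (σ : L ≃ₐ[k] L) (a : L) : Polynomial L →ₐ[k] Polynomial L :=
  evalWith ((Polynomial.CAlgHom (R := k)).comp σ.toAlgHom) (Polynomial.C a * Polynomial.X)

theorem tw_C (σ : L ≃ₐ[k] L) (a c : L) : tw σ a (Polynomial.C c) = Polynomial.C (σ c) := evalWith_C _ _ _

theorem tw_X (σ : L ≃ₐ[k] L) (a : L) : tw σ a Polynomial.X = Polynomial.C a * Polynomial.X := evalWith_X _ _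

variable [FiniteDimensional k L]

/-- The conjugates of characters span all functions on the Galois group. -/
theorem exists_dual (L : Type u) [Field L] [Algebra k L] [FiniteDimensional k L] :
    ∃ (s : Finset L) (m : L → L), ∀ [DecidableEq (L ≃ₐ[k] L)] (σ : L ≃ₐ[k] L),
      ∑ a ∈ s, σ a * m a = if σ = 1 then 1 else 0 := by
  classical
  letI : DecidableEq (L ≃ₐ[k] L) := Classical.decEq _
  have hspan : Submodule.span L (Set.range fun a : L => fun σ : L ≃ₐ[k] L => σ a) = ⊤ := by
    by_contra hne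
    obtain ⟨f, hf0, hf⟩ := Submodule.exists_dual_map_eq_bot_of_lt_top (lt_top_iff_ne_top.mpr hne) inferInstance
    refine hf0 ?_
    have hli := (linearIndependent_monoidHom L L).comp (fun σ : L ≃ₐ[k] L => (σ : L →* L))
      (fun σ τ h => AlgEquiv.ext fun a => DFunLike.congr_fun h a)
    rw [Fintype.linearIndependent_iff] at hli
    have hc : ∀ τ : L ≃ₐ[k] L, f (fun σ => if τ = σ then 1 else 0) = 0 := by
      refine hli (fun τ => f (fun σ => if τ = σ then 1 else 0)) ?_
      funext a
      have h1 : f (fun σ : L ≃ₐ[k] L => σ a) = 0 := by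
        have := Submodule.mem_map_of_mem (f := f) (Submodule.subset_span (R := L) (Set.mem_range_self (f := fun a : L => fun σ : L ≃ₐ[k] L => σ a) a))
        rw [hf] at this
        exact (Submodule.mem_bot L).mp this
      rw [LinearMap.pi_apply_eq_sum_univ] at h1
      simp only [Function.comp_apply, Finset.sum_apply, Pi.smul_apply, smul_eq_mul, Pi.zero_apply]
      exact Eq.trans (Finset.sum_congr rfl fun τ _ => mul_comm _ _) h1
    refine LinearMap.ext fun g => ?_
    rw [LinearMap.pi_apply_eq_sum_univ]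
    simp [hc]
  have hmem : (fun σ : L ≃ₐ[k] L => if σ = 1 then (1 : L) else 0) ∈
      Submodule.span L (Set.range fun a : L => fun σ : L ≃ₐ[k] L => σ a) := hspan ▸ Submodule.mem_top
  obtain ⟨c, hc⟩ := Finsupp.mem_span_range_iff_exists_finsupp.mp hmem
  refine ⟨c.support, c, fun {_} σ => ?_⟩
  have h := congrFun hc σ
  simp only [Finsupp.sum, Finset.sum_apply, Pi.smul_apply, smul_eq_mul] at h
  refine ((Finset.sum_congr rfl fun a _ => mul_comm _ _).trans h).trans ?_
  split_ifs <;> rfl

variable [IsGalois k L]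

/-- Descent of an additive point along a Galois extension. -/
theorem exists_descent (φ : pt k (Polynomial L) ⟶ H) (hφ : IsAdditive φ) (hne : φ ≠ 1) :
    ∃ ψ : pt k (Polynomial k) ⟶ H, ψ ≠ 1 ∧ ∀ (C : Type u) [CommRing C] [Algebra k C]
      (β β1 δ : Polynomial k →ₐ[k] C), δ Polynomial.X = β Polynomial.X + β1 Polynomial.X →
      (ptMap β ≫ ψ) * (ptMap β1 ≫ ψ) = ptMap δ ≫ ψ := by
  classical
  let incl : Polynomial k →ₐ[k] Polynomial L := Polynomial.mapAlgHom (Algebra.ofId k L)
  have hincl : Function.Injective incl := Polynomial.map_injective _ (algebraMap k L).injective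
  let tr : L → (pt k (Polynomial L) ⟶ H) := fun a => ∏ σ : L ≃ₐ[k] L, ptMap (tw σ (σ a)) ≫ φ
  have hdesc : ∀ a, ∃ ψ : pt k (Polynomial k) ⟶ H, ptMap incl ≫ ψ = tr a := by
    intro a
    obtain ⟨A, _, _, v, _⟩ := exists_iso_pt (H := H)
    obtain ⟨α, hα⟩ := Repr.exists_ptMap (tr a ≫ inv v)
    have htr : tr a = ptMap α ≫ v := by rw [← hα, Category.assoc, IsIso.inv_hom_id, Category.comp_id]
    have hinv : ∀ τ : L ≃ₐ[k] L, (Polynomial.mapAlgHom τ.toAlgHom).comp α = α := by
      intro τ
      have h1 : ptMap (Polynomial.mapAlgHom τ.toAlgHom) ≫ tr a = tr a := by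
        show ptMap _ ≫ ∏ σ : L ≃ₐ[k] L, ptMap (tw σ (σ a)) ≫ φ = ∏ σ : L ≃ₐ[k] L, ptMap (tw σ (σ a)) ≫ φ
        rw [comp_prod]
        refine Fintype.prod_equiv (Equiv.mulLeft τ) _ _ fun σ => ?_
        rw [← Category.assoc, ← Repr.ptMap_comp]
        refine congrArg (fun t => ptMap t ≫ φ) (polyHom_ext (fun c => ?_) ?_)
        · show Polynomial.map (τ.toAlgHom : L →+* L) (tw σ (σ a) (Polynomial.C c)) = _
          rw [tw_C, tw_C, Polynomial.map_C]
          rfl
        · show Polynomial.map (τ.toAlgHom : L →+* L) (tw σ (σ a) Polynomial.X) = _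
          rw [tw_X, tw_X, Polynomial.map_mul, Polynomial.map_C, Polynomial.map_X]
          rfl
      have h2 : ptMap ((Polynomial.mapAlgHom τ.toAlgHom).comp α) = ptMap α := by
        rw [Repr.ptMap_comp, ← hα, ← Category.assoc, h1]
      have h3 := congrArg (fun z => z.left) h2
      rw [ptMap_left, ptMap_left] at h3
      exact AlgHom.ext fun b => congrArg (fun z => (CommRingCat.Hom.hom z) b) (Spec.map_injective h3)
    obtain ⟨ψ, hψ⟩ := exists_factor (H := H) incl hincl v α fun b => by
      have hmem : α b ∈ Polynomial.lifts (algebraMap k L) := by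
        rw [Polynomial.lifts_iff_coeff_lifts]
        intro n
        refine (IsGalois.mem_range_algebraMap_iff_fixed _).mpr ?_
        intro τ
        have h := congrArg (fun p : Polynomial L => p.coeff n) (AlgHom.congr_fun (hinv τ) b)
        simpa [Polynomial.coeff_map] using h
      obtain ⟨q, hq⟩ := (Polynomial.mem_lifts _).mp hmem
      exact ⟨q, hq⟩
    exact ⟨ψ, hψ.trans htr.symm⟩
  choose ψ hψ using hdesc
  have hadd : ∀ (a : L) (C : Type u) [CommRing C] [Algebra k C] (β β1 δ : Polynomial k →ₐ[k] C),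
      δ Polynomial.X = β Polynomial.X + β1 Polynomial.X → (ptMap β ≫ ψ a) * (ptMap β1 ≫ ψ a) = ptMap δ ≫ ψ a := by
    intro a C _ _ β β1 δ hX
    let j0 : C →ₐ[k] L ⊗[k] C := Algebra.TensorProduct.includeRight
    have hj0 : Function.Injective j0 :=
      Algebra.TensorProduct.includeRight_injective (RingHom.injective (algebraMap k L))
    let l : L →ₐ[k] L ⊗[k] C := Algebra.TensorProduct.includeLeft
    have key : ∀ f0 : Polynomial k →ₐ[k] C, ptMap j0 ≫ ptMap f0 ≫ ψ a =
        ∏ σ : L ≃ₐ[k] L, ptMap (evalWith (l.comp σ.toAlgHom) (l (σ a) * j0 (f0 Polynomial.X))) ≫ φ := by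
      intro f0
      have h1 : j0.comp f0 = (evalWith l (j0 (f0 Polynomial.X))).comp incl := Polynomial.algHom_ext (by
        show j0 (f0 Polynomial.X) = evalWith l _ (Polynomial.map (algebraMap k L) Polynomial.X)
        rw [Polynomial.map_X, evalWith_X])
      rw [← Category.assoc, ← Repr.ptMap_comp, h1, Repr.ptMap_comp, Category.assoc, hψ, comp_prod]
      refine Finset.prod_congr rfl fun σ _ => ?_
      rw [← Category.assoc, ← Repr.ptMap_comp]
      refine congrArg (fun t => ptMap t ≫ φ) (polyHom_ext (fun c => ?_) ?_)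
      · show evalWith l _ (tw σ (σ a) (Polynomial.C c)) = _
        rw [tw_C, evalWith_C, evalWith_C]
        rfl
      · show evalWith l _ (tw σ (σ a) Polynomial.X) = _
        rw [tw_X, map_mul, evalWith_C, evalWith_X, evalWith_X]
    apply pts_injective j0 hj0
    rw [MonObj.comp_mul, key, key, key, ← Finset.prod_mul_distrib]
    refine Finset.prod_congr rfl fun σ _ => ?_
    rw [hφ.apply, hX, map_add, mul_add]
  by_contra hcon
  have htriv : ∀ a, tr a = 1 := fun a => by
    have : ψ a = 1 := by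
      by_contra h1
      exact hcon ⟨ψ a, h1, fun C _ _ => hadd a C⟩
    rw [← hψ, this, MonObj.comp_one]
  obtain ⟨s, m, hm⟩ := exists_dual (k := k) L
  refine hne ?_
  have h1 : ∏ a ∈ s, ptMap (tw (1 : L ≃ₐ[k] L) (m a)) ≫ tr a = 1 :=
    Finset.prod_eq_one fun a _ => by rw [htriv, MonObj.comp_one]
  have h2 : ∀ a σ, ptMap (tw (1 : L ≃ₐ[k] L) (m a)) ≫ ptMap (tw σ (σ a)) ≫ φ =
      ptMap (evalWith ((Polynomial.CAlgHom (R := k)).comp σ.toAlgHom) (Polynomial.C (σ a * m a) * Polynomial.X)) ≫ φ := by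
    intro a σ
    rw [← Category.assoc, ← Repr.ptMap_comp]
    refine congrArg (fun t => ptMap t ≫ φ) (polyHom_ext (fun c => ?_) ?_)
    · show tw 1 (m a) (tw σ (σ a) (Polynomial.C c)) = _
      rw [tw_C, tw_C, evalWith_C]
      rfl
    · show tw 1 (m a) (tw σ (σ a) Polynomial.X) = _
      rw [tw_X, map_mul, tw_C, tw_X, evalWith_X, map_mul, _root_.mul_assoc]
      rfl
  have h3 : ∏ σ : L ≃ₐ[k] L, ptMap (evalWith ((Polynomial.CAlgHom (R := k)).comp σ.toAlgHom)
      (Polynomial.C (if σ = 1 then (1 : L) else 0) * Polynomial.X)) ≫ φ = 1 := by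
    rw [← h1]
    simp only [tr, comp_prod, h2]
    rw [Finset.prod_comm]
    refine Finset.prod_congr rfl fun σ _ => ?_
    rw [hφ.apply_sum, ← Finset.sum_mul, ← map_sum, hm σ]
  rw [Finset.prod_eq_single 1 (fun σ _ hσ => by
      rw [if_neg hσ, map_zero, MulZeroClass.zero_mul, hφ.apply_zero]) (fun h => absurd (Finset.mem_univ _) h),
    if_pos rfl, map_one, _root_.one_mul] at h3
  rw [← h3]
  refine (Category.id_comp φ).symm.trans ?_
  rw [← Repr.ptMap_id]
  exact congrArg (fun t => ptMap t ≫ φ) (polyHom_ext (fun c => by rw [evalWith_C]; rfl) (by rw [evalWith_X]; rfl))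

end Field

end GrothLib.GaTrace21
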