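import Groth.Agent.GaTrace21.Core
import Groth.Agent.Lib.DiagGrp.SubgroupEq

/-!
# Homomorphisms out of the additive group over a perfect field
-/

set_option autoImplicit false
set_option linter.style.haveILetI false
set_option backward.isDefEq.respectTransparency false
set_option maxHeartbeats 1000000
set_option synthInstance.maxHeartbeats 1000000

universe u

open CategoryTheory CategoryTheory.Limits MonoidalCategory CartesianMonoidalCategory MonObj GrpObj AlgebraicGeometry
open VecGrp

noncomputable section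

namespace GrothLib.GaTrace21

attribute [-instance] ULift.module Hom.commGroup Hom.commMonoid CommGrpObj.toIsCommMonObj

section Line

variable (k : Type u) [Field k]

local notation "𝔾a" => Red.Ga (Spec (CommRingCat.of k))

/-- The function of a point of the additive group on an affine test object. -/
def fn (C : Type u) [CommRing C] [Algebra k C] (x : pt k C ⟶ 𝔾a) : C :=
  (Scheme.ΓSpecIso (CommRingCat.of C)).hom (Red.gaFn x)

theorem fn_mul (C : Type u) [CommRing C] [Algebra k C] (x y : pt k C ⟶ 𝔾a) :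
    fn k C (x * y) = fn k C x + fn k C y := by
  show (Scheme.ΓSpecIso (CommRingCat.of C)).hom (Red.gaFn (x * y)) = _
  rw [RedPts.gaFn_mul, map_add]
  rfl

theorem fn_injective (C : Type u) [CommRing C] [Algebra k C] {x y : pt k C ⟶ 𝔾a}
    (h : fn k C x = fn k C y) : x = y :=
  RedPts.gaFn_injective ((ConcreteCategory.bijective_of_isIso (Scheme.ΓSpecIso (CommRingCat.of C)).hom).1 h)

/-- The universal point of the additive group. -/
def univPt : pt k (Polynomial k) ⟶ 𝔾a :=
  RedPts.gaPt (T := pt k (Polynomial k)) ((Scheme.ΓSpecIso (CommRingCat.of (Polynomial k))).inv Polynomial.X)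

theorem fn_univPt : fn k (Polynomial k) (univPt k) = Polynomial.X := by
  show (Scheme.ΓSpecIso (CommRingCat.of (Polynomial k))).hom (Red.gaFn (univPt k)) = _
  rw [univPt, RedPts.gaFn_gaPt]
  exact Iso.inv_hom_id_apply (Scheme.ΓSpecIso (CommRingCat.of (Polynomial k))) _

theorem fn_map (C : Type u) [CommRing C] [Algebra k C] (f : Polynomial k →ₐ[k] C) :
    fn k C (ptMap f ≫ univPt k) = f Polynomial.X :=
  (FixPt13.gaFn_ptMap f (univPt k)).trans (congrArg f (fn_univPt k))

instance isIso_univPt : IsIso (univPt k) :=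
  FixPt13.exists_iso_of_universal (univPt k) fun C _ _ x => ⟨Polynomial.aeval (fn k C x),
    fn_injective k C (by rw [fn_map, Polynomial.aeval_X]), fun f hf => Polynomial.algHom_ext (by
      rw [Polynomial.aeval_X, ← hf, fn_map])⟩

theorem univPt_mul (C : Type u) [CommRing C] [Algebra k C] (β β1 δ : Polynomial k →ₐ[k] C)
    (h : δ Polynomial.X = β Polynomial.X + β1 Polynomial.X) :
    (ptMap β ≫ univPt k) * (ptMap β1 ≫ univPt k) = ptMap δ ≫ univPt k :=
  fn_injective k C (by rw [fn_mul, fn_map, fn_map, fn_map, h])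

theorem univPt_ne_one : univPt k ≠ 1 := fun h => by
  have h1 := fn_mul k (Polynomial k) 1 1
  have e : (1 : pt k (Polynomial k) ⟶ 𝔾a) * (1 : pt k (Polynomial k) ⟶ 𝔾a) = 1 :=
    @_root_.mul_one (pt k (Polynomial k) ⟶ 𝔾a) _ (1 : pt k (Polynomial k) ⟶ 𝔾a)
  rw [e, ← h, fn_univPt] at h1
  exact Polynomial.X_ne_zero (left_eq_add.mp h1)

variable {k}

/-- An additive point gives a homomorphism. -/
theorem exists_hom {H : Over (Spec (CommRingCat.of k))} [GrpObj H] (ψ : pt k (Polynomial k) ⟶ H) (hne : ψ ≠ 1)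
    (hadd : ∀ (C : Type u) [CommRing C] [Algebra k C] (β β1 δ : Polynomial k →ₐ[k] C),
      δ Polynomial.X = β Polynomial.X + β1 Polynomial.X → (ptMap β ≫ ψ) * (ptMap β1 ≫ ψ) = ptMap δ ≫ ψ) :
    ∃ f : 𝔾a ⟶ H, IsMonHom f ∧ f ≠ 1 := by
  refine ⟨inv (univPt k) ≫ ψ, DiagGrp.isMonHom_of_points _ fun Y a b => Repr.hom_ext_pts fun C _ _ t => ?_,
    fun h => hne ?_⟩
  · obtain ⟨β, hβ⟩ := Repr.exists_ptMap ((t ≫ a) ≫ inv (univPt k))
    obtain ⟨β1, hβ1⟩ := Repr.exists_ptMap ((t ≫ b) ≫ inv (univPt k))
    obtain ⟨δ, hδ⟩ := Repr.exists_ptMap (((t ≫ a) * (t ≫ b)) ≫ inv (univPt k))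
    have key : δ Polynomial.X = β Polynomial.X + β1 Polynomial.X := by
      rw [← fn_map k C δ, ← fn_map k C β, ← fn_map k C β1, ← hδ, ← hβ, ← hβ1]
      simp only [Category.assoc, IsIso.inv_hom_id, Category.comp_id]
      exact fn_mul k C _ _
    rw [MonObj.comp_mul]
    simp only [← Category.assoc]
    rw [MonObj.comp_mul, hδ, hβ, hβ1]
    exact (hadd C β β1 δ key).symm
  · rw [← IsIso.hom_inv_id_assoc (univPt k) ψ, h, MonObj.comp_one]

end Line

section Ext

variable {K : Type u} [Field K] (Ω : Type u) [Field Ω] [Algebra K Ω] (H : Over (Spec (CommRingCat.of K)))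

/-- The test object over the bigger field, seen over the smaller one. -/
def ptRestr (C : Type u) [CommRing C] [Algebra K C] [Algebra Ω C] [IsScalarTower K Ω C] :
    pt K C ⟶ (Over.map (Spec.map (CommRingCat.ofHom (algebraMap K Ω)))).obj (pt Ω C) :=
  Over.homMk (𝟙 _) (by
    show 𝟙 _ ≫ Spec.map (CommRingCat.ofHom (algebraMap Ω C)) ≫ Spec.map (CommRingCat.ofHom (algebraMap K Ω)) =
      Spec.map (CommRingCat.ofHom (algebraMap K C))
    rw [Category.id_comp, ← Spec.map_comp, ← CommRingCat.ofHom_comp, ← IsScalarTower.algebraMap_eq])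

instance (C : Type u) [CommRing C] [Algebra K C] [Algebra Ω C] [IsScalarTower K Ω C] :
    IsIso (ptRestr (K := K) Ω C) := by
  haveI : IsIso ((Over.forget _).map (ptRestr (K := K) Ω C)) := inferInstanceAs (IsIso (𝟙 _))
  exact isIso_of_reflects_iso _ (Over.forget _)

/-- A point of the base change as a point over the smaller field. -/
def restrPt (C : Type u) [CommRing C] [Algebra K C] [Algebra Ω C] [IsScalarTower K Ω C]
    (x : pt Ω C ⟶ Red.bc (Spec.map (CommRingCat.ofHom (algebraMap K Ω))) H) : pt K C ⟶ H :=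
  ptRestr Ω C ≫ ((Over.mapPullbackAdj _).homEquiv _ _).symm x

theorem restrPt_injective (C : Type u) [CommRing C] [Algebra K C] [Algebra Ω C] [IsScalarTower K Ω C] :
    Function.Injective (restrPt (K := K) Ω H C) := fun _ _ h =>
  ((Over.mapPullbackAdj _).homEquiv _ _).symm.injective ((cancel_epi (ptRestr (K := K) Ω C)).mp h)

theorem restrPt_natural {C C' : Type u} [CommRing C] [Algebra K C] [Algebra Ω C] [IsScalarTower K Ω C]
    [CommRing C'] [Algebra K C'] [Algebra Ω C'] [IsScalarTower K Ω C'] (f : C →ₐ[Ω] C') (g : C →ₐ[K] C')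
    (hfg : ∀ c, f c = g c)
    (x : pt Ω C ⟶ Red.bc (Spec.map (CommRingCat.ofHom (algebraMap K Ω))) H) :
    restrPt Ω H C' (ptMap f ≫ x) = ptMap g ≫ restrPt Ω H C x := by
  have h : ptRestr (K := K) Ω C' ≫ (Over.map _).map (ptMap f) = ptMap g ≫ ptRestr Ω C := by
    refine Over.OverMorphism.ext ?_
    show 𝟙 _ ≫ (ptMap f).left = (ptMap g).left ≫ 𝟙 _
    rw [ptMap_left, ptMap_left, Category.id_comp]
    refine Eq.trans ?_ (Category.comp_id _).symm
    exact congrArg (fun r => Spec.map (CommRingCat.ofHom r)) (RingHom.ext hfg)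
  rw [restrPt, restrPt, Adjunction.homEquiv_naturality_left_symm, ← Category.assoc, h, Category.assoc]

variable [GrpObj H]

theorem restrPt_mul (C : Type u) [CommRing C] [Algebra K C] [Algebra Ω C] [IsScalarTower K Ω C]
    (x y : pt Ω C ⟶ Red.bc (Spec.map (CommRingCat.ofHom (algebraMap K Ω))) H) :
    restrPt Ω H C (x * y) = restrPt Ω H C x * restrPt Ω H C y := by
  have h : ((Over.mapPullbackAdj (Spec.map (CommRingCat.ofHom (algebraMap K Ω)))).homEquiv _ _).symm (x * y) =
      ((Over.mapPullbackAdj _).homEquiv _ _).symm x * ((Over.mapPullbackAdj _).homEquiv _ _).symm y := by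
    refine ((Over.mapPullbackAdj _).homEquiv _ _).symm_apply_eq.mpr ?_
    rw [Adjunction.homEquiv_unit, Functor.map_mul, MonObj.comp_mul, ← Adjunction.homEquiv_unit,
      ← Adjunction.homEquiv_unit, Equiv.apply_symm_apply, Equiv.apply_symm_apply]
  rw [restrPt, h, MonObj.comp_mul]
  rfl

theorem restrPt_one (C : Type u) [CommRing C] [Algebra K C] [Algebra Ω C] [IsScalarTower K Ω C] :
    restrPt Ω H C 1 = 1 := by
  have h := restrPt_mul Ω H C 1 1
  rw [_root_.mul_one] at h
  exact (mul_eq_left.mp h.symm)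

/-- A non-trivial homomorphism out of the additive group over an algebraic extension descends. -/
theorem exists_hom_of_extension [PerfectField K] [Algebra.IsAlgebraic K Ω] [IsAlgClosed Ω] [IsCommMonObj H]
    [IsAffine H.left] [LocallyOfFiniteType H.hom] (g : Spec (CommRingCat.of Ω) ⟶ Spec (CommRingCat.of K))
    (hg : g = Spec.map (CommRingCat.ofHom (algebraMap K Ω))) (w : Red.Ga (Spec (CommRingCat.of Ω)) ⟶ Red.bc g H)
    [hwm : IsMonHom w] (hw : w ≠ 1) : ∃ f : Red.Ga (Spec (CommRingCat.of K)) ⟶ H, IsMonHom f ∧ f ≠ 1 := by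
  subst hg
  let φ : pt K (Polynomial Ω) ⟶ H := restrPt Ω H (Polynomial Ω) (univPt Ω ≫ w)
  have hne : φ ≠ 1 := fun h => by
    have h1 := restrPt_injective Ω H (Polynomial Ω) (h.trans (restrPt_one Ω H _).symm)
    exact hw ((cancel_epi (univPt Ω)).mp (h1.trans (MonObj.comp_one _).symm))
  have hadd : IsAdditive φ := by
    intro C _ _ β β1 δ hβ1 hδ hX
    letI : Algebra Ω C := (β.comp (Polynomial.CAlgHom (R := K))).toRingHom.toAlgebra
    haveI : IsScalarTower K Ω C := IsScalarTower.of_algebraMap_eq fun c =>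
      ((β.comp (Polynomial.CAlgHom (R := K))).commutes c).symm
    let up : ∀ (f : Polynomial Ω →ₐ[K] C), (∀ c, f (Polynomial.C c) = β (Polynomial.C c)) → Polynomial Ω →ₐ[Ω] C :=
      fun f hf => { f.toRingHom with commutes' := fun c => by rw [Polynomial.algebraMap_eq]; exact hf c }
    show (ptMap β ≫ restrPt Ω H _ _) * (ptMap β1 ≫ restrPt Ω H _ _) = ptMap δ ≫ restrPt Ω H _ _
    rw [← restrPt_natural Ω H (up β fun _ => rfl) β (fun _ => rfl),
      ← restrPt_natural Ω H (up β1 hβ1) β1 (fun _ => rfl), ← restrPt_natural Ω H (up δ hδ) δ (fun _ => rfl),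
      ← restrPt_mul]
    congr 1
    refine Eq.trans (congrArg₂ (· * ·) (Category.assoc _ _ _).symm (Category.assoc _ _ _).symm)
      (Eq.trans (@MonObj.mul_comp _ _ _ _ _ _ _ _ (ptMap (up β fun _ => rfl) ≫ univPt Ω)
        (ptMap (up β1 hβ1) ≫ univPt Ω) w hwm).symm ?_)
    rw [← Category.assoc]
    congr 1
    exact univPt_mul Ω C _ _ _ hX
  haveI : IsAlgClosure K Ω := ⟨inferInstance, inferInstance⟩
  haveI : Normal K Ω := IsAlgClosure.normal K Ω
  obtain ⟨A, _, _, v, _⟩ := exists_iso_pt (H := H)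
  haveI : Algebra.FiniteType K A := by
    haveI : IsIso v.left := inferInstanceAs (IsIso ((Over.forget _).map v))
    have h : LocallyOfFiniteType (Spec.map (CommRingCat.ofHom (algebraMap K A))) := by
      have e : v.left ≫ H.hom = Spec.map (CommRingCat.ofHom (algebraMap K A)) := Over.w v
      rw [← e]; infer_instance
    exact RingHom.finiteType_algebraMap.mp ((HasRingHomProperty.Spec_iff (P := @LocallyOfFiniteType)).mp h)
  obtain ⟨α, hα⟩ := Repr.exists_ptMap (φ ≫ inv v)
  have hφ : φ = ptMap α ≫ v := by rw [← hα, Category.assoc, IsIso.inv_hom_id, Category.comp_id]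
  obtain ⟨s, hs⟩ := (inferInstance : Algebra.FiniteType K A).out
  classical
  let T : Finset Ω := s.biUnion fun a => (α a).support.image fun n => (α a).coeff n
  let F : IntermediateField K Ω := IntermediateField.adjoin K (T : Set Ω)
  haveI : FiniteDimensional K F :=
    IntermediateField.finiteDimensional_adjoin fun x _ => Algebra.IsIntegral.isIntegral x
  let L : IntermediateField K Ω := IntermediateField.normalClosure K F Ω
  haveI : Normal K L := normalClosure.normal K F Ω
  haveI : Algebra.IsSeparable K L := Algebra.IsAlgebraic.isSeparable_of_perfectField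
  haveI : IsGalois K L := ⟨⟩
  have hrange : ∀ a, α a ∈ (Polynomial.mapAlgHom (R := K) L.val).range := by
    have hle : Algebra.adjoin K (s : Set A) ≤ (Polynomial.mapAlgHom (R := K) L.val).range.comap α := by
      refine Algebra.adjoin_le fun a ha => ?_
      have hmem : α a ∈ Polynomial.lifts (L.val : L →+* Ω) := by
        rw [Polynomial.lifts_iff_coeff_lifts]
        intro n
        by_cases hn : (α a).coeff n = 0
        · exact ⟨0, by rw [map_zero, hn]⟩
        · have hT : (α a).coeff n ∈ T :=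
            Finset.mem_biUnion.mpr ⟨a, ha, Finset.mem_image.mpr ⟨n, Polynomial.mem_support_iff.mpr hn, rfl⟩⟩
          exact ⟨⟨_, IntermediateField.le_normalClosure F (IntermediateField.subset_adjoin K _ hT)⟩, rfl⟩
      obtain ⟨q, hq⟩ := (Polynomial.mem_lifts _).mp hmem
      exact ⟨q, hq⟩
    exact fun a => hle (hs ▸ Algebra.mem_top)
  obtain ⟨φL, hφL⟩ := exists_factor (H := H) (Polynomial.mapAlgHom (R := K) L.val)
    (Polynomial.map_injective _ L.val.injective) v α hrange
  obtain ⟨ψ, hψ, hψadd⟩ := exists_descent φL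
    (IsAdditive.of_extension L.val φL (by rw [hφL, ← hφ]; exact hadd))
    (fun h => hne (by rw [hφ, ← hφL, h, MonObj.comp_one]))
  exact exists_hom ψ hψ hψadd

end Ext

end GrothLib.GaTrace21
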