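import Groth.Agent.GaTrace21.GaHom
import Groth.Agent.RuledGa21.Main
import Groth.Agent.Lib.UnipFix19.PerfectRad
import Groth.Agent.Lib.UnipFix19.LastDerived
import Groth.Agent.Lib.SplitRed1.Div

/-!
# A faithful action of a non-reductive group over a perfect field makes a variety ruled
-/

set_option autoImplicit false
set_option linter.style.haveILetI false
set_option backward.isDefEq.respectTransparency false
set_option maxHeartbeats 1000000
set_option synthInstance.maxHeartbeats 400000

universe u

open CategoryTheory CategoryTheory.Limits MonoidalCategory CartesianMonoidalCategory MonObj GrpObj AlgebraicGeometry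

noncomputable section

namespace GrothLib.GaTrace21

attribute [-instance] ULift.module

variable {K : Type u} [Field K] [PerfectField K]

/-- A non-trivial commutative unipotent group over a perfect field receives the additive group. -/
theorem exists_Ga_hom_perfect (H : Over (Spec (CommRingCat.of K))) [GrpObj H] [IsCommMonObj H] [IsAffine H.left]
    [Smooth H.hom] [ConnectedSpace H.left] (hne : ¬ Red.IsTrivialGrp H) (s : ↥(Spec (CommRingCat.of K)))
    (hno : Red.HasNoSubtorus (AlgebraicClosure ((Spec (CommRingCat.of K)).residueField s)) (Red.geomFibre s H)) :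
    ∃ f : Red.Ga (Spec (CommRingCat.of K)) ⟶ H, IsMonHom f ∧ f ≠ 1 := by
  let Ω := AlgebraicClosure ((Spec (CommRingCat.of K)).residueField s)
  let U := Red.geomFibre s H
  haveI : IsAffine U.left := GrothLib.Flag27.isAffine_bc _ H
  haveI : Smooth U.hom := GrothLib.Flag27.smooth_bc _ H
  haveI : ConnectedSpace U.left := GrothLib.Flag27.connectedSpace_bc _ H
  haveI : AlgebraicGeometry.IsIntegral U.left := Euler.isIntegral_of_smooth_connected Ω U.hom
  obtain ⟨n, hn⟩ := Chev24.exists_nat_dim (k := Ω) U
  have hn0 : n ≠ 0 := fun h0 => by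
    haveI : Subsingleton U.left := by
      have h := GrothLib.Dim.subsingleton_of_dim_eq_zero (S := (Set.univ : Set U.left)) isClosed_univ
        (IrreducibleSpace.isIrreducible_univ _)
        (((Homeomorph.Set.univ U.left).isHomeomorph.topologicalKrullDim_eq _).le.trans (by rw [hn, h0]; exact_mod_cast le_rfl))
      exact Set.subsingleton_univ_iff.1 h
    haveI : Subsingleton ↥(Spec (CommRingCat.of K)) := inferInstanceAs (Subsingleton (PrimeSpectrum K))
    haveI : Surjective (Red.geomPt s) := ⟨fun y => ⟨default, Subsingleton.elim _ _⟩⟩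
    haveI : Surjective (pullback.fst H.hom (Red.geomPt s)) := MorphismProperty.pullback_fst _ _ inferInstance
    haveI : Subsingleton H.left := by
      refine ⟨fun x y => ?_⟩
      obtain ⟨a, rfl⟩ := (pullback.fst H.hom (Red.geomPt s)).surjective x
      obtain ⟨b, rfl⟩ := (pullback.fst H.hom (Red.geomPt s)).surjective y
      exact congrArg _ (Subsingleton.elim (α := U.left) a b)
    exact hne (Chev24.isIso_hom_of_subsingleton H)
  obtain ⟨w, hw, hwm⟩ := SplitRed1.exists_Ga_hom n U
    (Flag27.isSolvable_points (UnipFix19.isSolvableGrp_of_comm U)) hno hn hn0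
  haveI := hw; haveI := hwm
  have hw1 : w ≠ 1 := fun h => by
    refine univPt_ne_one Ω ?_
    rw [← cancel_mono w, h, MonObj.comp_one, MonObj.comp_one]
  let q := Spec.preimage (Red.geomPt s)
  letI : Algebra K Ω := q.hom.toAlgebra
  have hg : Red.geomPt s = Spec.map (CommRingCat.ofHom (algebraMap K Ω)) := by
    rw [RingHom.algebraMap_toAlgebra, CommRingCat.ofHom_hom, Spec.map_preimage]
  haveI : Algebra.IsIntegral K Ω := by
    have h := UnipFix19.isIntegralHom_geomPt (k := K) s
    rw [hg, IsIntegralHom.SpecMap_iff] at h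
    exact ⟨h⟩
  haveI : Algebra.IsAlgebraic K Ω := inferInstance
  haveI : IsAlgClosed Ω := inferInstanceAs (IsAlgClosed (AlgebraicClosure _))
  exact exists_hom_of_extension Ω H (Red.geomPt s) hg w hw1

/-- A faithful action of a connected non-reductive group over a perfect field. -/
theorem exists_ruling_of_not_reductive (Γ X : Over (Spec (CommRingCat.of K))) [GrpObj Γ]
    [IsAffine Γ.left] [Smooth Γ.hom] [ConnectedSpace Γ.left] (hnr : ¬ Red.IsReductive Γ)
    [IsIntegral X.left] [LocallyOfFiniteType X.hom] [IsSeparated X.hom]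
    (a : AlgGrp.Action Γ X)
    (hfaith : ∀ (T : Over (Spec (CommRingCat.of K))) (g : T ⟶ Γ),
      (∀ (T' : Over (Spec (CommRingCat.of K))) (f : T' ⟶ T) (x : T' ⟶ X), lift (f ≫ g) x ≫ a.act = x) → g = 1) :
    ∃ (Y : Over (Spec (CommRingCat.of K))) (_ : IsIntegral Y.left) (_ : LocallyOfFiniteType Y.hom)
      (U : X.left.Opens) (V : (𝔸(ULift.{u} (Fin 1); Y.left)).Opens), (U : Set X.left).Nonempty ∧
      Nonempty (Over.mk (U.ι ≫ X.hom) ≅
        Over.mk (V.ι ≫ (𝔸(ULift.{u} (Fin 1); Y.left) ↘ Y.left) ≫ Y.hom)) := by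
  have hex : ∃ f : Red.Ga (Spec (CommRingCat.of K)) ⟶ Γ, IsMonHom f ∧ f ≠ 1 := by
    by_contra hcon
    refine hnr (UnipFix19.isReductive_of_forall Γ fun s N _ n _ hnc hNs hNc hNn hno hsol => ?_)
    haveI := hnc; haveI := hNs; haveI := hNc
    by_contra hNt
    have hNt' : ¬ Red.IsTrivialGrp N := fun h => hNt (MorphismProperty.pullback_snd (P := MorphismProperty.isomorphisms Scheme) _ _ h)
    obtain ⟨H, _, i, j, hi, hHc, hic, hHs, hHcon, -, hji, hHt⟩ := UnipFix19.exists_comm_normal n hNn hsol hNt'
    haveI := hi; haveI := hHc; haveI := hic; haveI := hHs; haveI := hHcon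
    haveI : IsAffine H.left := isAffine_of_isAffineHom i.left
    haveI : Mono n := Over.mono_of_mono_left n
    haveI : Mono i := Over.mono_of_mono_left i
    haveI : Mono j := mono_of_mono_fac hji
    haveI : IsMonHom (j ≫ n) := by rw [hji]; exact hi
    haveI : IsMonHom j := DiagGrp.isMonHom_of_comp_mono j n
    have hnoH : Red.HasNoSubtorus (AlgebraicClosure ((Spec (CommRingCat.of K)).residueField s)) (Red.geomFibre s H) :=
      fun T _ t _ _ hT => hno T (t ≫ (Over.pullback (Red.geomPt s)).map j) hT
    obtain ⟨f, hf, hf1⟩ := exists_Ga_hom_perfect H hHt s hnoH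
    haveI := hf
    exact hcon ⟨f ≫ i, inferInstance, fun h => hf1 (by rw [← cancel_mono i, h, MonObj.one_comp])⟩
  obtain ⟨f, hf, hf1⟩ := hex
  haveI := hf
  refine RuledGa21.exists_ruling _ X (Or.inl ⟨Iso.refl _⟩) (a.restrict f) fun htriv => hf1 (hfaith _ f fun T' t x => ?_)
  have h := congrArg (fun z => lift t x ≫ z) htriv
  rw [lift_snd] at h
  refine Eq.trans ?_ h
  show _ = lift t x ≫ (f ▷ X) ≫ a.act
  rw [lift_whiskerRight_assoc]

end GrothLib.GaTrace21
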